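import Mathlib
import Groth.Agent.Lib.QuadSeries.Basic

/-!
# Monomial ideals in three variables and lengths of the quotients
-/

namespace DblPtMult1

open MvPowerSeries IsLocalRing

universe u

variable (k : Type u) [Field k]

/-- Power series in three variables. -/
abbrev P : Type u := MvPowerSeries (Fin 3) k

/-- The monomial `x^a y^b z^c`. -/
noncomputable def mo (a b c : ℕ) : P k := X 0 ^ a * X 1 ^ b * X 2 ^ c

/-- The exponent of `mo a b c`. -/
noncomputable def ex (a b c : ℕ) : Fin 3 →₀ ℕ :=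
  Finsupp.single 0 a + Finsupp.single 1 b + Finsupp.single 2 c

theorem mo_eq (a b c : ℕ) : mo k a b c = monomial (ex a b c) 1 := by
  simp [mo, ex, X_pow_eq, monomial_mul_monomial]

theorem ex_le {a b c a' b' c' : ℕ} : ex a b c ≤ ex a' b' c' ↔ a ≤ a' ∧ b ≤ b' ∧ c ≤ c' := by
  constructor
  · intro h
    exact ⟨by simpa [ex] using h 0, by simpa [ex] using h 1, by simpa [ex] using h 2⟩
  · rintro ⟨h0, h1, h2⟩ i
    fin_cases i <;> simpa [ex]

/-- The monomial ideal of a set of exponents. -/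
noncomputable def mI (S : List (ℕ × ℕ × ℕ)) : Ideal (P k) :=
  Ideal.span {f | ∃ e ∈ S, mo k e.1 e.2.1 e.2.2 = f}

variable {k}

theorem mo_mem {S : List (ℕ × ℕ × ℕ)} {a b c : ℕ} (h : ∃ e ∈ S, e.1 ≤ a ∧ e.2.1 ≤ b ∧ e.2.2 ≤ c) :
    mo k a b c ∈ mI k S := by
  obtain ⟨⟨a', b', c'⟩, he, h0, h1, h2⟩ := h
  have : mo k a b c = mo k (a - a') (b - b') (c - c') * mo k a' b' c' := by
    dsimp only at h0 h1 h2
    rw [mo, mo, mo]
    conv_lhs => rw [← Nat.sub_add_cancel h0, ← Nat.sub_add_cancel h1, ← Nat.sub_add_cancel h2]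
    ring
  rw [this]
  exact Ideal.mul_mem_left _ _ (Ideal.subset_span ⟨_, he, rfl⟩)

theorem coeff_eq_zero {S : List (ℕ × ℕ × ℕ)} {a b c : ℕ}
    (h : ∀ e ∈ S, ¬ (e.1 ≤ a ∧ e.2.1 ≤ b ∧ e.2.2 ≤ c)) {f : P k} (hf : f ∈ mI k S) :
    coeff (ex a b c) f = 0 := by
  suffices ∀ g : P k, coeff (ex a b c) (g * f) = 0 by simpa using this 1
  induction hf using Submodule.span_induction with
  | mem x hx =>
    obtain ⟨e, he, rfl⟩ := hx
    intro g
    rw [mul_comm, mo_eq, coeff_monomial_mul, if_neg]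
    exact fun hle => h e he (ex_le.1 hle)
  | zero => simp
  | add x y _ _ hx hy => intro g; rw [mul_add, map_add, hx, hy, add_zero]
  | smul r x _ hx => intro g; rw [smul_eq_mul, ← mul_assoc]; exact hx _

theorem mo_notMem {S : List (ℕ × ℕ × ℕ)} {a b c : ℕ}
    (h : ∀ e ∈ S, ¬ (e.1 ≤ a ∧ e.2.1 ≤ b ∧ e.2.2 ≤ c)) : mo k a b c ∉ mI k S := fun hm => by
  have := coeff_eq_zero h hm
  rw [mo_eq, coeff_monomial_same] at this
  exact one_ne_zero this

theorem mI_cons (e : ℕ × ℕ × ℕ) (S : List (ℕ × ℕ × ℕ)) :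
    mI k (e :: S) = Ideal.span {mo k e.1 e.2.1 e.2.2} ⊔ mI k S := by
  rw [mI, mI, ← Ideal.span_union]
  congr 1
  ext f
  simp [eq_comm]

variable {R : Type u} [CommRing R] [IsLocalRing R]

theorem length_quot_succ (J : Ideal R) {v : R} (hv : v ∉ J) (hm : ∀ a ∈ maximalIdeal R, a * v ∈ J) :
    Module.length R (R ⧸ J) = Module.length R (R ⧸ (Ideal.span {v} ⊔ J)) + 1 := by
  let f : R →ₗ[R] R ⧸ J := (Submodule.mkQ J).comp (LinearMap.toSpanSingleton R R v)
  have hker : LinearMap.ker f = maximalIdeal R := by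
    ext a
    show (Submodule.Quotient.mk (a • v) : R ⧸ J) = 0 ↔ _
    rw [Submodule.Quotient.mk_eq_zero, smul_eq_mul]
    refine ⟨fun h => ?_, hm a⟩
    by_contra hu
    obtain ⟨b, hb⟩ := (notMem_maximalIdeal.1 hu).exists_left_inv
    exact hv (by simpa [← mul_assoc, hb] using J.mul_mem_left b h)
  have h1 : Module.length R (R ⧸ maximalIdeal R) = 1 :=
    Module.length_eq_one_iff.2 (isSimpleModule_iff_isCoatom.2 (maximalIdeal.isMaximal R).out)
  let g : (R ⧸ LinearMap.ker f) →ₗ[R] R ⧸ J := (LinearMap.ker f).liftQ f le_rfl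
  let π : (R ⧸ J) →ₗ[R] R ⧸ (Ideal.span {v} ⊔ J) := Submodule.factor le_sup_right
  have := Module.length_eq_add_of_exact g π (LinearMap.ker_eq_bot.1 (Submodule.ker_liftQ_eq_bot _ _ _ le_rfl))
    (Submodule.factor_surjective _) (fun z => by
      obtain ⟨a, rfl⟩ := Submodule.mkQ_surjective _ z
      constructor
      · intro ha
        have ha' : a ∈ Ideal.span {v} ⊔ J := (Submodule.Quotient.mk_eq_zero _).1 ha
        obtain ⟨s, hs, t, ht, rfl⟩ := Submodule.mem_sup.1 ha'
        obtain ⟨r, rfl⟩ := Ideal.mem_span_singleton'.1 hs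
        exact ⟨Submodule.Quotient.mk r, (Submodule.Quotient.eq _).2 (by simpa using ht)⟩
      · rintro ⟨w, hw⟩
        rw [← hw]
        obtain ⟨r, rfl⟩ := Submodule.mkQ_surjective _ w
        exact (Submodule.Quotient.mk_eq_zero _).2
          (Submodule.mem_sup_left (Ideal.mem_span_singleton'.2 ⟨r, rfl⟩)))
  rw [this, hker, h1, add_comm]

theorem length_step {S : List (ℕ × ℕ × ℕ)} {a b c : ℕ}
    (h : ∀ e ∈ S, ¬ (e.1 ≤ a ∧ e.2.1 ≤ b ∧ e.2.2 ≤ c))
    (hx : ∃ e ∈ S, e.1 ≤ a + 1 ∧ e.2.1 ≤ b ∧ e.2.2 ≤ c)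
    (hy : ∃ e ∈ S, e.1 ≤ a ∧ e.2.1 ≤ b + 1 ∧ e.2.2 ≤ c)
    (hz : ∃ e ∈ S, e.1 ≤ a ∧ e.2.1 ≤ b ∧ e.2.2 ≤ c + 1) :
    Module.length (P k) (P k ⧸ mI k S) = Module.length (P k) (P k ⧸ mI k ((a, b, c) :: S)) + 1 := by
  rw [mI_cons]
  refine length_quot_succ _ (mo_notMem h) fun r hr => ?_
  rw [GrothLib.QuadSeries.maximalIdeal_eq] at hr
  have hsub : Ideal.span (Set.range (X : Fin 3 → P k)) ≤ (mI k S).colon {mo k a b c} := by
    refine Ideal.span_le.2 ?_
    rintro _ ⟨i, rfl⟩
    rw [SetLike.mem_coe, Submodule.mem_colon_singleton, smul_eq_mul]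
    fin_cases i
    · convert mo_mem (k := k) hx using 1; simp [mo]; ring
    · convert mo_mem (k := k) hy using 1; simp [mo]; ring
    · convert mo_mem (k := k) hz using 1; simp [mo]; ring
  exact Submodule.mem_colon_singleton.1 (hsub hr)

theorem length_top {S : List (ℕ × ℕ × ℕ)} (h : (0, 0, 0) ∈ S) :
    Module.length (P k) (P k ⧸ mI k S) = 0 := by
  have : mI k S = ⊤ := by
    rw [Ideal.eq_top_iff_one]
    simpa [mo] using mo_mem (k := k) (a := 0) (b := 0) (c := 0) ⟨_, h, le_rfl, le_rfl, le_rfl⟩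
  have : Subsingleton (P k ⧸ mI k S) := Submodule.Quotient.subsingleton_iff.2 this
  exact Module.length_eq_zero

theorem length_seven :
    Module.length (P k) (P k ⧸ mI k [(2,0,0), (1,1,0), (0,2,0), (1,0,1), (0,1,2), (0,0,4)]) = 7 := by
  rw [length_step (a := 0) (b := 1) (c := 1) (by decide) (by decide) (by decide) (by decide),
    length_step (a := 0) (b := 0) (c := 3) (by decide) (by decide) (by decide) (by decide),
    length_step (a := 0) (b := 0) (c := 2) (by decide) (by decide) (by decide) (by decide),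
    length_step (a := 1) (b := 0) (c := 0) (by decide) (by decide) (by decide) (by decide),
    length_step (a := 0) (b := 1) (c := 0) (by decide) (by decide) (by decide) (by decide),
    length_step (a := 0) (b := 0) (c := 1) (by decide) (by decide) (by decide) (by decide),
    length_step (a := 0) (b := 0) (c := 0) (by decide) (by decide) (by decide) (by decide),
    length_top (by decide)]
  rfl

theorem length_two :
    Module.length (P k) (P k ⧸ mI k [(2,0,0), (0,1,0), (0,0,1)]) = 2 := by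
  rw [length_step (a := 1) (b := 0) (c := 0) (by decide) (by decide) (by decide) (by decide),
    length_step (a := 0) (b := 0) (c := 0) (by decide) (by decide) (by decide) (by decide),
    length_top (by decide)]
  rfl

end DblPtMult1
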