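import Mathlib
import Groth.Agent.Lib.DblPtMult1.Monomial

/-!
# The ring `k[[x,y,z]]/(x^2 - y^n)`: regular elements and colengths
-/

namespace DblPtMult1

open MvPowerSeries IsLocalRing

universe u

variable (k : Type u) [Field k] (n : ℕ)

/-- The equation. -/
noncomputable def eqn : P k := X 0 ^ 2 - X 1 ^ n

/-- The ring. -/
abbrev A : Type u := P k ⧸ Ideal.span {eqn k n}

variable {k n}

theorem X_dvd_of_dvd_eqn_mul {i : Fin 3} (hi : i = 1 ∨ i = 2) (hn : 1 ≤ n) {φ : P k}
    (h : (X i : P k) ∣ eqn k n * φ) : (X i : P k) ∣ φ := by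
  rw [X_dvd_iff] at h ⊢
  intro m hm
  have hi0 : i ≠ 0 := by rcases hi with rfl | rfl <;> decide
  induction hs : m 1 using Nat.strong_induction_on generalizing m with
  | _ s ih =>
    have h1 := h (m + Finsupp.single 0 2) (by simp [hm, Finsupp.single_eq_of_ne hi0])
    rw [eqn, sub_mul, map_sub, X_pow_eq, X_pow_eq, coeff_monomial_mul, coeff_monomial_mul,
      if_pos le_add_self, one_mul, add_tsub_cancel_right] at h1
    split_ifs at h1 with hle
    · have h01 : (Finsupp.single (0 : Fin 3) 2) 1 = 0 := Finsupp.single_eq_of_ne (by decide)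
      have hsn : n ≤ s := by
        have := hle 1
        rw [Finsupp.single_eq_same, Finsupp.add_apply, h01] at this
        omega
      have h2 := ih (s - n) (by omega) (m + Finsupp.single 0 2 - Finsupp.single 1 n)
        (by simp [hm, Finsupp.single_eq_of_ne hi0])
        (by rw [Finsupp.tsub_apply, Finsupp.add_apply, h01, Finsupp.single_eq_same]; omega)
      rw [h2, one_mul, sub_zero] at h1
      exact h1
    · simpa using h1

theorem regular_z (hn : 1 ≤ n) (a : A k n) (h : Ideal.Quotient.mk _ (X 2 : P k) * a = 0) : a = 0 := by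
  obtain ⟨φ, rfl⟩ := Ideal.Quotient.mk_surjective a
  rw [← map_mul, Ideal.Quotient.eq_zero_iff_mem, Ideal.mem_span_singleton] at h
  obtain ⟨ψ, hψ⟩ := h
  obtain ⟨ψ', rfl⟩ := X_dvd_of_dvd_eqn_mul (Or.inr rfl) hn (Dvd.intro φ hψ)
  rw [Ideal.Quotient.eq_zero_iff_mem, Ideal.mem_span_singleton]
  refine ⟨ψ', mul_left_cancel₀ (X_ne_zero' (k := k) 2) ?_⟩
  linear_combination hψ
where
  X_ne_zero' {k : Type u} [Field k] (i : Fin 3) : (X i : P k) ≠ 0 := fun h => by
    have := congrArg (coeff (Finsupp.single i 1)) h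
    rw [X_def, coeff_monomial_same, map_zero] at this
    exact one_ne_zero this

/-- The series without the monomials involving `z`. -/
def cut (φ : P k) : P k := fun m => if m 2 = 0 then coeff m φ else 0

theorem coeff_cut (φ : P k) (m : Fin 3 →₀ ℕ) : coeff m (cut φ) = if m 2 = 0 then coeff m φ else 0 := rfl

theorem z_dvd_sub_cut (φ : P k) : (X 2 : P k) ∣ φ - cut φ := by
  rw [X_dvd_iff]
  intro m hm
  rw [map_sub, coeff_cut, if_pos hm, sub_self]

theorem coeff_monomial_mul_cut (e m : Fin 3 →₀ ℕ) (he : e 2 = 0) (hm : m 2 ≠ 0) (φ : P k) :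
    coeff m (monomial e 1 * cut φ) = 0 := by
  rw [coeff_monomial_mul]
  split_ifs with h
  · rw [coeff_cut, if_neg (by simp [he, hm]), mul_zero]
  · rfl

theorem regular_y_mod_z (hn : 1 ≤ n) (a : A k n)
    (h : ∃ b, Ideal.Quotient.mk _ (X 2 : P k) * b = Ideal.Quotient.mk _ (X 1 : P k) * a) :
    ∃ c, Ideal.Quotient.mk _ (X 2 : P k) * c = a := by
  obtain ⟨b, hb⟩ := h
  obtain ⟨φ, rfl⟩ := Ideal.Quotient.mk_surjective a
  obtain ⟨η, rfl⟩ := Ideal.Quotient.mk_surjective b
  rw [← map_mul, ← map_mul, Ideal.Quotient.eq, Ideal.mem_span_singleton] at hb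
  obtain ⟨ψ, hψ⟩ := hb
  obtain ⟨φ', hφ⟩ := z_dvd_sub_cut φ
  obtain ⟨ψ', hψ'⟩ := z_dvd_sub_cut ψ
  have hz : (X 2 : P k) ∣ eqn k n * cut ψ + X 1 * cut φ := ⟨η - X 1 * φ' - eqn k n * ψ', by
    linear_combination -((X 1 : P k) * hφ) - eqn k n * hψ' - hψ⟩
  have h21 : (Finsupp.single (1 : Fin 3) 1) 2 = 0 := Finsupp.single_eq_of_ne (by decide)
  have h0 : eqn k n * cut ψ + X 1 * cut φ = 0 := by
    ext m
    rw [map_zero]
    by_cases hm : m 2 = 0
    · exact X_dvd_iff.1 hz m hm
    · rw [map_add, eqn, sub_mul, map_sub, X_pow_eq, X_pow_eq, X_def,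
        coeff_monomial_mul_cut _ m (Finsupp.single_eq_of_ne (by decide)) hm,
        coeff_monomial_mul_cut _ m (Finsupp.single_eq_of_ne (by decide)) hm,
        coeff_monomial_mul_cut _ m h21 hm, sub_zero, add_zero]
  obtain ⟨ψ'', hψ''⟩ := X_dvd_of_dvd_eqn_mul (i := (1 : Fin 3)) (φ := cut ψ) (Or.inl rfl) hn
    ⟨-cut φ, by linear_combination h0⟩
  have hcut : cut φ = eqn k n * (-ψ'') := by
    refine mul_left_cancel₀ (regular_z.X_ne_zero' (k := k) 1) ?_
    linear_combination h0 - eqn k n * hψ''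
  refine ⟨Ideal.Quotient.mk _ φ', ?_⟩
  rw [← map_mul, Ideal.Quotient.eq, Ideal.mem_span_singleton]
  exact ⟨ψ'', by linear_combination -hφ - hcut⟩

theorem length_quot (K : Ideal (A k n)) (L : Ideal (P k))
    (h : K.comap (Ideal.Quotient.mk (Ideal.span {eqn k n})) = L) :
    Module.length (A k n) (A k n ⧸ K) = Module.length (P k) (P k ⧸ L) := by
  rw [← Module.length_eq_of_surjective (R := A k n) (S := P k) (M := A k n ⧸ K) Ideal.Quotient.mk_surjective]
  subst h
  let g : P k →ₗ[P k] A k n ⧸ K := (K.mkQ.restrictScalars (P k)).comp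
    (Ideal.Quotient.mkₐ (P k) (Ideal.span {eqn k n})).toLinearMap
  have hg : Function.Surjective g := fun z => by
    obtain ⟨a, rfl⟩ := Submodule.mkQ_surjective K z
    obtain ⟨p, rfl⟩ := Ideal.Quotient.mk_surjective a
    exact ⟨p, rfl⟩
  have hker : LinearMap.ker g = K.comap (Ideal.Quotient.mk (Ideal.span {eqn k n})) := by
    ext p
    exact Submodule.Quotient.mk_eq_zero K
  rw [← hker]
  exact (g.quotKerEquivOfSurjective hg).length_eq.symm

end DblPtMult1
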