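import Mathlib
import Groth.Agent.Lib.DblPtMult1.Ring
import Groth.Agent.Lib.KoszulEuler.Lech

/-!
# The multiplicity of the witness ideal
-/

namespace DblPtMult1

open MvPowerSeries IsLocalRing GrothLib.KoszulEuler Filter Topology

universe u

variable (k : Type u) [Field k] (n : ℕ)

local notation "q" => Ideal.Quotient.mk (Ideal.span {eqn k n})

/-- The witness exponents. -/
abbrev wit : List (ℕ × ℕ × ℕ) := [(2,0,0), (1,1,0), (0,2,0), (1,0,1), (0,1,2), (0,0,4)]

/-- The witness ideal. -/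
noncomputable def I : Ideal (A k n) := (mI k wit).map q

/-- The reduction. -/
noncomputable def yz : Fin 2 → A k n := ![q (X 2) ^ 4, q (X 1) ^ 2]

variable {k n}

theorem eqn_mem {S : List (ℕ × ℕ × ℕ)} (hn : 3 ≤ n) (h2 : mo k 2 0 0 ∈ mI k S)
    (h3 : mo k 0 3 0 ∈ mI k S) : eqn k n ∈ mI k S := by
  have e : eqn k n = mo k 2 0 0 - mo k 0 (n - 3) 0 * mo k 0 3 0 := by
    rw [eqn, mo, mo, mo]
    conv_lhs => rw [show n = (n - 3) + 3 by omega, pow_add]
    ring
  rw [e]
  exact sub_mem h2 (Ideal.mul_mem_left _ _ h3)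

theorem comap_map_mI {S : List (ℕ × ℕ × ℕ)} (h : eqn k n ∈ mI k S) :
    ((mI k S).map q).comap q = mI k S := by
  rw [Ideal.comap_map_of_surjective _ Ideal.Quotient.mk_surjective, ← RingHom.ker_eq_comap_bot,
    Ideal.mk_ker, sup_eq_left]
  exact (Ideal.span_singleton_le_iff_mem _).2 h

theorem length_I (hn : 3 ≤ n) : Module.length (A k n) (A k n ⧸ I k n) = 7 := by
  rw [I, length_quot _ _ (comap_map_mI (eqn_mem hn (mo_mem (by decide)) (mo_mem (by decide))))]
  exact length_seven

theorem length_yz (hn : 3 ≤ n) :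
    Module.length (A k n) (A k n ⧸ Ideal.span {q (X 2), q (X 1)}) = 2 := by
  have e : Ideal.span {q (X 2), q (X 1)} = (mI k [(2,0,0), (0,1,0), (0,0,1)]).map q := by
    have hm : eqn k n ∈ Ideal.span ({X 2, X 1, X 0 ^ 2} : Set (P k)) := by
      rw [eqn, show n = (n - 1) + 1 by omega, pow_succ]
      exact sub_mem (Ideal.subset_span (by simp)) (Ideal.mul_mem_left _ _ (Ideal.subset_span (by simp)))
    have h0 : q (X 0 ^ 2) ∈ Ideal.span {q (X 2), q (X 1)} := by
      have : q (X 0 ^ 2) = q (X 1) ^ n := by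
        rw [← map_pow, Ideal.Quotient.eq]; exact Ideal.subset_span rfl
      rw [this, show n = (n - 1) + 1 by omega, pow_succ]
      exact Ideal.mul_mem_left _ _ (Ideal.subset_span (by simp))
    refine le_antisymm (Ideal.span_le.2 ?_) (Ideal.map_le_iff_le_comap.2 (Ideal.span_le.2 ?_))
    · rintro x (rfl | rfl)
      · exact Ideal.mem_map_of_mem _ (by simpa [mo] using mo_mem (k := k) (S := [(2,0,0), (0,1,0), (0,0,1)]) (a := 0) (b := 0) (c := 1) (by decide))
      · exact Ideal.mem_map_of_mem _ (by simpa [mo] using mo_mem (k := k) (S := [(2,0,0), (0,1,0), (0,0,1)]) (a := 0) (b := 1) (c := 0) (by decide))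
    · rintro x ⟨e, he, rfl⟩
      simp only [List.mem_cons, List.not_mem_nil, or_false] at he
      rw [SetLike.mem_coe, Ideal.mem_comap]
      rcases he with rfl | rfl | rfl
      · simpa [mo] using h0
      · simp [mo]; exact Ideal.subset_span (by simp)
      · simp [mo]; exact Ideal.subset_span (by simp)
  rw [e, length_quot _ _ (comap_map_mI (eqn_mem hn (mo_mem (by decide)) (mo_mem (by decide))))]
  exact length_two

open scoped Pointwise in
theorem good_and_chi (hn : 3 ≤ n) :
    Good (ModuleCat.of (A k n) (A k n)) (List.ofFn (yz k n)) ∧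
      chi (ModuleCat.of (A k n) (A k n)) (List.ofFn (yz k n)) = 16 := by
  let M := ModuleCat.of (A k n) (A k n)
  let x : Fin 2 → A k n := ![q (X 2), q (X 1)]
  have hsp : spanL ([] ++ List.ofFn x) = Ideal.span {q (X 2), q (X 1)} := by
    rw [List.nil_append, spanL_ofFn]
    congr 1
    simp [x, Matrix.range_cons, Set.union_comm, Set.pair_comm]
  have hgood : Good M ([] ++ List.ofFn x) := by
    unfold Good
    rw [hsp, smul_eq_mul, Ideal.mul_top]
    refine Module.length_ne_top_iff.1 ?_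
    rw [length_yz hn]
    exact ENat.coe_ne_top 2
  have hpow := chi_pow (M := M) 2 x ![4, 2] [] hgood
  have hyz : (fun j => x j ^ (![4, 2] : Fin 2 → ℕ) j) = yz k n := by
    funext j; fin_cases j <;> rfl
  rw [hyz, List.nil_append, List.nil_append] at hpow
  refine ⟨hpow.1, ?_⟩
  rw [hpow.2]
  have hl : List.ofFn x = [q (X 2), q (X 1)] := by simp [x, List.ofFn_succ]
  rw [List.nil_append, hl] at hgood
  rw [hl]
  have h1 : ∀ m : A k n, q (X 2) • m = 0 → m = 0 := fun m hm => regular_z (by omega) m hm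
  have g2 := good_quotSMul hgood
  have h2 : ∀ m : QuotSMulTop (q (X 2)) (A k n), q (X 1) • m = 0 → m = 0 := by
    intro m hm
    obtain ⟨a, rfl⟩ := Submodule.mkQ_surjective _ m
    rw [← map_smul, Submodule.mkQ_apply, Submodule.Quotient.mk_eq_zero,
      Submodule.mem_smul_pointwise_iff_exists] at hm
    obtain ⟨b, -, hb⟩ := hm
    obtain ⟨c, hc⟩ := regular_y_mod_z (by omega) a ⟨b, hb⟩
    rw [Submodule.mkQ_apply, Submodule.Quotient.mk_eq_zero, Submodule.mem_smul_pointwise_iff_exists]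
    exact ⟨c, trivial, hc⟩
  rw [(chi_cons_regular (M := M) h1 hgood).1, (chi_cons_regular h2 g2).1, chi_nil]
  let π := (q (X 1) • (⊤ : Submodule (A k n) (QuotSMulTop (q (X 2)) (A k n)))).mkQ.comp
    (q (X 2) • (⊤ : Submodule (A k n) (A k n))).mkQ
  have hπ : Function.Surjective π := (Submodule.mkQ_surjective _).comp (Submodule.mkQ_surjective _)
  have hker : LinearMap.ker π = Ideal.span {q (X 2), q (X 1)} := by
    ext a
    simp only [π, LinearMap.mem_ker, LinearMap.comp_apply, Submodule.mkQ_apply, Submodule.Quotient.mk_eq_zero,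
      Submodule.mem_smul_pointwise_iff_exists, Ideal.mem_span_pair, smul_eq_mul]
    constructor
    · rintro ⟨z, -, hz⟩
      obtain ⟨b, rfl⟩ := Submodule.mkQ_surjective _ z
      rw [← map_smul, Submodule.mkQ_apply, Submodule.Quotient.eq,
        Submodule.mem_smul_pointwise_iff_exists] at hz
      obtain ⟨c, -, hc⟩ := hz
      simp only [smul_eq_mul] at hc
      exact ⟨-c, b, by linear_combination -hc⟩
    · rintro ⟨s, t, rfl⟩
      refine ⟨Submodule.Quotient.mk t, trivial, ?_⟩
      rw [← Submodule.Quotient.mk_smul, Submodule.Quotient.eq, Submodule.mem_smul_pointwise_iff_exists]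
      exact ⟨-s, trivial, by simp only [smul_eq_mul]; ring⟩
  rw [← (π.quotKerEquivOfSurjective hπ).length_eq, hker, length_yz hn, ENat.toNat_ofNat]
  norm_num [Fin.prod_univ_two]

theorem span_yz_le : Ideal.span (Set.range (yz k n)) ≤ I k n := by
  refine Ideal.span_le.2 ?_
  rintro _ ⟨j, rfl⟩
  fin_cases j
  · simp only [yz]
    exact Ideal.mem_map_of_mem _ (by simpa [mo] using mo_mem (k := k) (S := wit) (a := 0) (b := 0) (c := 4) (by decide))
  · simp only [yz]
    exact Ideal.mem_map_of_mem _ (by simpa [mo] using mo_mem (k := k) (S := wit) (a := 0) (b := 2) (c := 0) (by decide))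

theorem cube_le (hn : 3 ≤ n) : I k n ^ 3 ≤ Ideal.span (Set.range (yz k n)) * I k n ^ 2 := by
  set J := Ideal.span (Set.range (yz k n)) with hJ
  obtain ⟨a, ha⟩ : ∃ a, a = q (X 0) * q (X 1) := ⟨_, rfl⟩
  obtain ⟨b, hb⟩ : ∃ b, b = q (X 0) * q (X 2) := ⟨_, rfl⟩
  obtain ⟨c, hc⟩ : ∃ c, c = q (X 1) * q (X 2) ^ 2 := ⟨_, rfl⟩
  have hy2 : q (X 1) ^ 2 ∈ J := Ideal.subset_span ⟨1, rfl⟩
  have hz4 : q (X 2) ^ 4 ∈ J := Ideal.subset_span ⟨0, rfl⟩
  obtain ⟨r, hr⟩ : ∃ r, n = r + 3 := ⟨n - 3, by omega⟩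
  have hx2 : q (X 0) ^ 2 = q (X 1) ^ (r + 3) := by
    refine Eq.trans ?_ (congrArg (fun m => q (X 1) ^ m) hr)
    rw [← map_pow, ← map_pow, Ideal.Quotient.eq]; exact Ideal.subset_span rfl
  have mem : ∀ i j l : ℕ, (∃ e ∈ wit, e.1 ≤ i ∧ e.2.1 ≤ j ∧ e.2.2 ≤ l) →
      q (X 0) ^ i * q (X 1) ^ j * q (X 2) ^ l ∈ I k n := fun i j l h => by
    have := Ideal.mem_map_of_mem q (mo_mem (k := k) h)
    simpa [mo, I] using this
  have aI : a ∈ I k n := by simpa [ha] using mem 1 1 0 (by decide)
  have bI : b ∈ I k n := by simpa [hb] using mem 1 0 1 (by decide)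
  have cI : c ∈ I k n := by simpa [hc] using mem 0 1 2 (by decide)
  have hI : I k n ≤ J ⊔ Ideal.span {a, b, c} := by
    rw [I, Ideal.map_le_iff_le_comap]
    refine Ideal.span_le.2 ?_
    rintro _ ⟨e, he, rfl⟩
    simp only [List.mem_cons, List.not_mem_nil, or_false] at he
    rw [SetLike.mem_coe, Ideal.mem_comap]
    rcases he with rfl | rfl | rfl | rfl | rfl | rfl <;> simp only [mo, map_mul, map_pow, pow_zero, pow_one, mul_one, one_mul]
    · refine Submodule.mem_sup_left ?_
      rw [hx2, show r + 3 = (r + 1) + 2 by omega, pow_add]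
      exact J.mul_mem_left _ hy2
    · exact Submodule.mem_sup_right (Ideal.subset_span (by simp [ha]))
    · exact Submodule.mem_sup_left hy2
    · exact Submodule.mem_sup_right (Ideal.subset_span (by simp [hb]))
    · exact Submodule.mem_sup_right (Ideal.subset_span (by simp [hc]))
    · exact Submodule.mem_sup_left hz4
  have aa : a * a ∈ J * I k n := by
    have : a * a = q (X 1) ^ 2 * (q (X 0) ^ 0 * q (X 1) ^ (r + 3) * q (X 2) ^ 0) := by
      rw [← hx2, ha]; ring
    rw [this]; exact Ideal.mul_mem_mul hy2 (mem _ _ _ ⟨(0, 2, 0), by decide, le_rfl, show 2 ≤ r + 3 by omega, le_rfl⟩)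
  have ab : a * b ∈ J * I k n := by
    have : a * b = q (X 1) ^ 2 * (q (X 0) ^ 0 * q (X 1) ^ (r + 2) * q (X 2) ^ 1) := by
      have : a * b = q (X 0) ^ 2 * (q (X 1) * q (X 2)) := by rw [ha, hb]; ring
      rw [this, hx2]; ring
    rw [this]; exact Ideal.mul_mem_mul hy2 (mem _ _ _ ⟨(0, 2, 0), by decide, le_rfl, show 2 ≤ r + 2 by omega, Nat.zero_le _⟩)
  have bb : b * b ∈ J * I k n := by
    have : b * b = q (X 1) ^ 2 * (q (X 0) ^ 0 * q (X 1) ^ (r + 1) * q (X 2) ^ 2) := by
      have : b * b = q (X 0) ^ 2 * q (X 2) ^ 2 := by rw [hb]; ring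
      rw [this, hx2]; ring
    rw [this]; exact Ideal.mul_mem_mul hy2 (mem _ _ _ ⟨(0, 1, 2), by decide, le_rfl, show 1 ≤ r + 1 by omega, le_rfl⟩)
  have ac : a * c ∈ J * I k n := by
    have : a * c = q (X 1) ^ 2 * (q (X 0) ^ 1 * q (X 1) ^ 0 * q (X 2) ^ 2) := by rw [ha, hc]; ring
    rw [this]; exact Ideal.mul_mem_mul hy2 (mem _ _ _ (by decide))
  have cc : c * c ∈ J * I k n := by
    have : c * c = q (X 1) ^ 2 * (q (X 0) ^ 0 * q (X 1) ^ 0 * q (X 2) ^ 4) := by rw [hc]; ring
    rw [this]; exact Ideal.mul_mem_mul hy2 (mem _ _ _ (by decide))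
  set T := I k n with hT
  have hJT : J * T ≤ J * T ⊔ Ideal.span {b * c} := le_sup_left
  have sq : T * T ≤ J * T ⊔ Ideal.span {b * c} := by
    refine (Ideal.mul_mono hI le_rfl).trans ?_
    rw [Ideal.sup_mul]
    refine sup_le hJT ((Ideal.mul_mono le_rfl hI).trans ?_)
    rw [Ideal.mul_sup]
    refine sup_le ?_ ?_
    · have hST : Ideal.span {a, b, c} ≤ T := Ideal.span_le.2 (by rintro x (h | h | h) <;> rw [h] <;> assumption)
      exact le_trans (le_of_eq (Ideal.mul_comm _ _)) ((Ideal.mul_mono le_rfl hST).trans hJT)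
    · rw [Ideal.span_mul_span', Ideal.span_le]
      rintro z ⟨x, hx, y, hy, rfl⟩
      rcases hx with rfl | rfl | rfl <;> rcases hy with rfl | rfl | rfl
      · exact hJT aa
      · exact hJT ab
      · exact hJT ac
      · exact hJT (by simpa [mul_comm] using ab)
      · exact hJT bb
      · exact Submodule.mem_sup_right (Ideal.subset_span rfl)
      · exact hJT (by simpa [mul_comm] using ac)
      · exact Submodule.mem_sup_right (Ideal.subset_span (mul_comm _ _))
      · exact hJT cc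
  rw [pow_succ, pow_two]
  refine (Ideal.mul_mono sq le_rfl).trans ?_
  rw [Ideal.sup_mul, mul_assoc]
  refine sup_le le_rfl ((Ideal.mul_mono le_rfl hI).trans ?_)
  rw [Ideal.mul_sup]
  refine sup_le ?_ ?_
  · rw [mul_comm (Ideal.span {b * c}) J]
    exact Ideal.mul_mono le_rfl ((Ideal.span_singleton_le_iff_mem _).2 (Ideal.mul_mem_mul bI cI))
  · rw [Ideal.span_mul_span', Ideal.span_le]
    rintro z ⟨x, hx, y, hy, rfl⟩
    obtain rfl : x = b * c := hx
    show b * c * y ∈ J * (T * T)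
    rw [← mul_assoc]
    rcases hy with hy | hy | hy <;> rw [hy]
    · rw [show b * c * a = (a * b) * c by ring]; exact Ideal.mul_mem_mul ab cI
    · rw [show b * c * b = (b * b) * c by ring]; exact Ideal.mul_mem_mul bb cI
    · rw [show b * c * c = (c * c) * b by ring]; exact Ideal.mul_mem_mul cc bI

theorem pow_le (hn : 3 ≤ n) : ∀ m : ℕ, I k n ^ (m + 2) ≤ Ideal.span (Set.range (yz k n)) ^ m
  | 0 => le_top.trans (by rw [Submodule.pow_zero, Ideal.one_eq_top])
  | m + 1 => by
    rw [show m + 1 + 2 = m + 3 by omega, Submodule.pow_add _ (by omega : 3 ≠ 0)]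
    refine (Ideal.mul_mono le_rfl (cube_le hn)).trans ?_
    have e : I k n ^ m * (Ideal.span (Set.range (yz k n)) * I k n ^ 2) =
        Ideal.span (Set.range (yz k n)) * I k n ^ (m + 2) := by
      rw [← Ideal.mul_assoc, Ideal.mul_comm (I k n ^ m), Ideal.mul_assoc,
        ← Submodule.pow_add _ (by omega : 2 ≠ 0)]
    rw [e, Submodule.pow_add _ (by omega : 1 ≠ 0), Submodule.pow_one]
    exact le_trans (Ideal.mul_mono le_rfl (pow_le hn m)) (le_of_eq (Ideal.mul_comm _ _))

theorem nontrivial_A (hn : 3 ≤ n) : Nontrivial (A k n) := by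
  refine Ideal.Quotient.nontrivial_iff.2 fun h => ?_
  have h1 : (1 : P k) ∈ mI k wit := by
    have : Ideal.span {eqn k n} ≤ mI k wit := (Ideal.span_singleton_le_iff_mem _).2
      (eqn_mem hn (mo_mem (by decide)) (mo_mem (by decide)))
    exact this (h ▸ Submodule.mem_top)
  exact mo_notMem (k := k) (S := wit) (a := 0) (b := 0) (c := 0) (by decide) (by simpa [mo] using h1)

theorem tendsto_mult (hn : 3 ≤ n) :
    Tendsto (fun m : ℕ => (2 : ℝ) * ((Module.length (A k n) (A k n ⧸ I k n ^ m)).toNat : ℝ) / (m : ℝ) ^ 2)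
      atTop (𝓝 16) := by
  haveI := nontrivial_A (k := k) hn
  haveI : IsLocalRing (A k n) :=
    IsLocalRing.of_surjective' (Ideal.Quotient.mk (Ideal.span {eqn k n})) Ideal.Quotient.mk_surjective
  obtain ⟨hgood, hchi⟩ := good_and_chi (k := k) hn
  set J := Ideal.span (Set.range (yz k n)) with hJ
  have hfl : IsFiniteLength (A k n) ((A k n) ⧸ (J • (⊤ : Submodule (A k n) (A k n)))) := by
    unfold Good at hgood; rw [spanL_ofFn] at hgood; exact hgood
  have hlim := tendsto_samuel hfl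
  rw [hchi] at hlim
  have e : ∀ t, J ^ t • (⊤ : Submodule (A k n) (A k n)) = J ^ t := fun t => by
    rw [smul_eq_mul, Ideal.mul_top]
  have hne : ∀ t, Module.length (A k n) (A k n ⧸ J ^ t) ≠ ⊤ := fun t => by
    have := fl_pow hfl t; rwa [e] at this
  let F : ℕ → ℝ := fun t => ((Module.length (A k n) (A k n ⧸ J ^ t)).toNat : ℝ)
  have hF : Tendsto (fun t : ℕ => 2 * F t / (t : ℝ) ^ 2) atTop (𝓝 16) := by
    have h16 : ((16 : ℤ) : ℝ) = 16 := by norm_num
    rw [h16] at hlim
    refine hlim.congr fun t => ?_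
    have et := congrArg (fun S : Submodule (A k n) (A k n) => ((Module.length (A k n) (A k n ⧸ S)).toNat : ℝ)) (e t)
    show _ = 2 * ((Module.length (A k n) (A k n ⧸ J ^ t)).toNat : ℝ) / (t : ℝ) ^ 2
    rw [← et, Nat.factorial_two, Nat.cast_ofNat]
  have hG : ∀ m, ((Module.length (A k n) (A k n ⧸ I k n ^ m)).toNat : ℝ) ≤ F m := fun m =>
    Nat.cast_le.2 (ENat.toNat_le_toNat (Module.length_le_of_surjective
      (Submodule.factor (Ideal.pow_right_mono span_yz_le m)) (Submodule.factor_surjective _)) (hne m))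
  have hG' : ∀ m, 2 ≤ m → F (m - 2) ≤ ((Module.length (A k n) (A k n ⧸ I k n ^ m)).toNat : ℝ) := fun m hm =>
    Nat.cast_le.2 (ENat.toNat_le_toNat (Module.length_le_of_surjective
      (Submodule.factor (by simpa [Nat.sub_add_cancel hm] using pow_le (k := k) hn (m - 2)))
        (Submodule.factor_surjective _))
      (ne_top_of_le_ne_top (hne m) (Module.length_le_of_surjective
        (Submodule.factor (Ideal.pow_right_mono span_yz_le m)) (Submodule.factor_surjective _))))
  have hratio : Tendsto (fun m : ℕ => (((m - 2 : ℕ) : ℝ) / (m : ℝ)) ^ 2) atTop (𝓝 1) := by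
    have h1 : Tendsto (fun m : ℕ => 1 - (2 : ℝ) / (m : ℝ)) atTop (𝓝 1) := by
      simpa using (tendsto_const_nhds (x := (1 : ℝ))).sub (tendsto_const_div_atTop_nhds_zero_nat (2 : ℝ))
    have h2 := h1.pow 2
    rw [one_pow] at h2
    refine h2.congr' ?_
    filter_upwards [eventually_ge_atTop 2] with m hm
    have : (m : ℝ) ≠ 0 := by
      have : m ≠ 0 := by omega
      exact_mod_cast this
    rw [Nat.cast_sub hm]; field_simp; simp
  have hlow := (hF.comp (tendsto_sub_atTop_nat 2)).mul hratio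
  rw [mul_one] at hlow
  refine tendsto_of_tendsto_of_tendsto_of_le_of_le' hlow hF ?_ ?_
  · filter_upwards [eventually_ge_atTop 3] with m hm
    have h0 : ((m - 2 : ℕ) : ℝ) ≠ 0 := by
      have : m - 2 ≠ 0 := by omega
      exact_mod_cast this
    calc 2 * F (m - 2) / ((m - 2 : ℕ) : ℝ) ^ 2 * (((m - 2 : ℕ) : ℝ) / (m : ℝ)) ^ 2
        = 2 * F (m - 2) / (m : ℝ) ^ 2 := by rw [div_pow]; field_simp
      _ ≤ _ := by have := hG' m (by omega); gcongr
  · exact Eventually.of_forall fun m => by have := hG m; gcongr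

end DblPtMult1
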